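import Groth.Agent.L16.EpiFrames
import Groth.Agent.L29.DCoh.LocalLift
import Groth.Agent.L18.GenLocus
import Mathlib.CategoryTheory.Idempotents.Basic
import Mathlib.RingTheory.Finiteness.Projective

/-!
Retracts of finite free modules are finite projective modules over the ring of global functions.
-/

set_option autoImplicit false
set_option linter.style.haveILetI false
set_option backward.isDefEq.respectTransparency false
set_option backward.isDefEq.respectTransparency.types false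

universe u

open CategoryTheory CategoryTheory.Limits AlgebraicGeometry TopologicalSpace Opposite

noncomputable section

namespace Groth.L16.GammaFree

variable (X : Scheme.{u})

/-- Retracts of finite free modules. -/
abbrev P1 (M : X.Modules) : Prop :=
  ∃ (n : ℕ) (i : M ⟶ FlatMod.freeMod X n) (r : FlatMod.freeMod X n ⟶ M), i ≫ r = 𝟙 M

/-- Global sections as modules over the global functions. -/
def ΓF : X.Modules ⥤ ModuleCat.{u} Γ(X, ⊤) :=
  SheafOfModules.forget.{u} X.ringCatSheaf ⋙ PresheafOfModules.evaluation X.ringCatSheaf.obj (op ⊤)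

variable {X}

theorem ΓF_apply {M N : X.Modules} (g : M ⟶ N) (m : Γ(M, ⊤)) : (ΓF X).map g m = g.app ⊤ m := rfl

theorem sum_app {M N : X.Modules} {ι : Type} (s : Finset ι) (g : ι → (M ⟶ N)) (m : Γ(M, ⊤)) :
    (∑ i ∈ s, g i).app ⊤ m = ∑ i ∈ s, (g i).app ⊤ m :=
  map_sum (AddMonoidHom.mk' (fun φ : M ⟶ N => φ.app ⊤ m) fun _ _ => rfl) g s

variable (X) in
/-- The standard sections. -/
def gen (n : ℕ) (j : Fin n) : Γ(FlatMod.freeMod X n, ⊤) :=
  (Sigma.ι (fun _ : Fin n => Coh.structureModule X) j).app ⊤ (1 : Γ(X, ⊤))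

theorem decomposition (n : ℕ) (z : Γ(FlatMod.freeMod X n, ⊤)) :
    ∃ c : Fin n → Γ(X, ⊤), z = ∑ j, c j • gen X n j := by
  classical
  let p : Fin n → (FlatMod.freeMod X n ⟶ Coh.structureModule X) := fun j =>
    Sigma.desc fun i => if i = j then 𝟙 _ else 0
  refine ⟨fun j => (show Γ(X, ⊤) from (p j).app ⊤ z), ?_⟩
  have hid : 𝟙 (FlatMod.freeMod X n) = ∑ j, p j ≫ Sigma.ι (fun _ : Fin n => Coh.structureModule X) j := by
    refine Sigma.hom_ext _ _ fun i => ?_
    rw [Category.comp_id, Preadditive.comp_sum, Finset.sum_eq_single i]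
    · simp [p]
    · intro j _ hj
      simp [p, Ne.symm hj]
    · simp
  have h : z = (𝟙 (FlatMod.freeMod X n) : FlatMod.freeMod X n ⟶ _).app ⊤ z := rfl
  refine h.trans ?_
  rw [hid, sum_app]
  refine Finset.sum_congr rfl fun j _ => ?_
  exact (Groth.L18.GenLoc.app_eq (Sigma.ι (fun _ : Fin n => Coh.structureModule X) j) ⊤
    (show Γ(X, ⊤) from (p j).app ⊤ z)).trans (congrArg (_ • ·) (Groth.L18.Frame.rs_self _ le_rfl _))

theorem exists_preimage {M N : X.Modules} (hM : P1 X M) (f : (ΓF X).obj M ⟶ (ΓF X).obj N) :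
    ∃ g : M ⟶ N, (ΓF X).map g = f := by
  obtain ⟨n, i, r, hir⟩ := hM
  let h : FlatMod.freeMod X n ⟶ N := Sigma.desc fun j => Groth.L16.homOfSection N (f (r.app ⊤ (gen X n j)))
  refine ⟨i ≫ h, ModuleCat.hom_ext (LinearMap.ext fun m => ?_)⟩
  have hj : ∀ j, h.app ⊤ (gen X n j) = f (r.app ⊤ (gen X n j)) := fun j => by
    refine Eq.trans ?_ ((Groth.L16.homOfSection_app N (f (r.app ⊤ (gen X n j))) ⊤ 1).trans
      ((one_smul _ _).trans (Groth.L18.Frame.rs_self _ le_rfl _)))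
    exact congr($(Sigma.ι_desc (fun j => Groth.L16.homOfSection N (f (r.app ⊤ (gen X n j)))) j).app ⊤ (1 : Γ(X, ⊤)))
  show h.app ⊤ (i.app ⊤ m) = f m
  conv_rhs => rw [show m = r.app ⊤ (i.app ⊤ m) from congr($(hir.symm).app ⊤ m)]
  obtain ⟨c, hc⟩ := decomposition n (i.app ⊤ m)
  rw [hc, map_sum, map_sum, map_sum]
  refine Finset.sum_congr rfl fun j _ => ?_
  rw [Scheme.Modules.Hom.app_smul, Scheme.Modules.Hom.app_smul, hj]
  exact (f.hom.map_smul (c j) _).symm

theorem map_injective {M N : X.Modules} (hM : P1 X M) {g g' : M ⟶ N} (h : (ΓF X).map g = (ΓF X).map g') :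
    g = g' := by
  obtain ⟨n, i, r, hir⟩ := hM
  have h1 : r ≫ g = r ≫ g' := Sigma.hom_ext _ _ fun j =>
    Groth.L29.DC.unit_hom_ext _ _ (congr($h (r.app ⊤ (gen X n j))))
  rw [← Category.id_comp g, ← Category.id_comp g', ← hir, Category.assoc, Category.assoc, h1]

theorem finite_projective {M : X.Modules} (hM : P1 X M) :
    Module.Finite Γ(X, ⊤) ((ΓF X).obj M) ∧ Module.Projective Γ(X, ⊤) ((ΓF X).obj M) := by
  classical
  obtain ⟨n, i, r, hir⟩ := hM
  let F := FlatMod.freeMod X n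
  let σ : (Fin n → Γ(X, ⊤)) →ₗ[Γ(X, ⊤)] (ΓF X).obj M :=
    Fintype.linearCombination Γ(X, ⊤) fun j => (r.app ⊤ (gen X n j) : (ΓF X).obj M)
  let p : Fin n → (FlatMod.freeMod X n ⟶ Coh.structureModule X) := fun j =>
    Sigma.desc fun i => if i = j then 𝟙 _ else 0
  let τ : (ΓF X).obj M →ₗ[Γ(X, ⊤)] (Fin n → Γ(X, ⊤)) :=
    LinearMap.pi fun j => ((ΓF X).map (i ≫ p j)).hom
  have hgen : ∀ j k, (p k).app ⊤ (gen X n j) = if j = k then (1 : Γ(X, ⊤)) else 0 := fun j k => by
    show (Sigma.ι (fun _ : Fin n => Coh.structureModule X) j ≫ p k).app ⊤ (1 : Γ(X, ⊤)) = _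
    rw [Sigma.ι_desc]
    split <;> rfl
  have hστ : σ ∘ₗ τ = LinearMap.id := LinearMap.ext fun m => by
    obtain ⟨c, hc⟩ := decomposition n (i.app ⊤ m)
    have hτ : τ m = c := funext fun k => by
      show (p k).app ⊤ (i.app ⊤ m) = c k
      rw [hc, map_sum, Finset.sum_eq_single k]
      · rw [Scheme.Modules.Hom.app_smul, hgen, if_pos rfl]
        exact mul_one (show Γ(X, ⊤) from c k)
      · intro j _ hj
        rw [Scheme.Modules.Hom.app_smul, hgen, if_neg hj]
        exact mul_zero (show Γ(X, ⊤) from c j)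
      · exact fun h => absurd (Finset.mem_univ k) h
    show σ (τ m) = m
    rw [hτ, show σ c = ∑ j, c j • (r.app ⊤ (gen X n j) : (ΓF X).obj M) from Fintype.linearCombination_apply _ _ _]
    refine Eq.trans ?_ (congr($(hir).app ⊤ m))
    show _ = r.app ⊤ (i.app ⊤ m)
    rw [hc, map_sum]
    exact Finset.sum_congr rfl fun j _ => (r.app_smul _ _).symm
  exact ⟨Module.Finite.of_surjective σ fun m => ⟨τ m, LinearMap.congr_fun hστ m⟩,
    Module.Projective.of_split τ σ hστ⟩

theorem exists_object (P : ModuleCat.{u} Γ(X, ⊤)) [Module.Finite Γ(X, ⊤) P] [Module.Projective Γ(X, ⊤) P] :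
    ∃ M : X.Modules, P1 X M ∧ Nonempty ((ΓF X).obj M ≅ P) := by
  classical
  obtain ⟨n, π, hπ⟩ := Module.Finite.exists_fin' Γ(X, ⊤) P
  obtain ⟨s, hs⟩ := Module.projective_lifting_property π LinearMap.id hπ
  let p : Fin n → (FlatMod.freeMod X n ⟶ Coh.structureModule X) := fun j =>
    Sigma.desc fun i => if i = j then 𝟙 _ else 0
  let τ : (ΓF X).obj (FlatMod.freeMod X n) →ₗ[Γ(X, ⊤)] (Fin n → Γ(X, ⊤)) :=
    LinearMap.pi fun j => ((ΓF X).map (p j)).hom
  let σ : (Fin n → Γ(X, ⊤)) →ₗ[Γ(X, ⊤)] (ΓF X).obj (FlatMod.freeMod X n) :=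
    Fintype.linearCombination Γ(X, ⊤) fun j => (gen X n j : (ΓF X).obj (FlatMod.freeMod X n))
  have hgen : ∀ j k, (p k).app ⊤ (gen X n j) = if j = k then (1 : Γ(X, ⊤)) else 0 := fun j k => by
    show (Sigma.ι (fun _ : Fin n => Coh.structureModule X) j ≫ p k).app ⊤ (1 : Γ(X, ⊤)) = _
    rw [Sigma.ι_desc]
    split <;> rfl
  have hτσ : τ ∘ₗ σ = LinearMap.id := LinearMap.ext fun c => funext fun k => by
    show (p k).app ⊤ (σ c) = c k
    rw [show σ c = ∑ j, c j • (gen X n j : (ΓF X).obj (FlatMod.freeMod X n)) from Fintype.linearCombination_apply _ _ _]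
    refine (map_sum ((ΓF X).map (p k)).hom _ _).trans ?_
    rw [Finset.sum_eq_single k]
    · rw [map_smul]
      show c k • (p k).app ⊤ (gen X n k) = _
      rw [hgen, if_pos rfl]
      exact mul_one (show Γ(X, ⊤) from c k)
    · intro j _ hj
      rw [map_smul]
      show c j • (p k).app ⊤ (gen X n j) = _
      rw [hgen, if_neg hj]
      exact mul_zero (show Γ(X, ⊤) from c j)
    · exact fun h => absurd (Finset.mem_univ k) h
  let b : (ΓF X).obj (FlatMod.freeMod X n) →ₗ[Γ(X, ⊤)] P := π ∘ₗ τ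
  let a : P →ₗ[Γ(X, ⊤)] (ΓF X).obj (FlatMod.freeMod X n) := σ ∘ₗ s
  have hba : b ∘ₗ a = LinearMap.id := LinearMap.ext fun x =>
    (congrArg π (LinearMap.congr_fun hτσ (s x))).trans (LinearMap.congr_fun hs x)
  have hfree : P1 X (FlatMod.freeMod X n) := ⟨n, 𝟙 _, 𝟙 _, Category.id_comp _⟩
  obtain ⟨E, hE⟩ := exists_preimage hfree (ModuleCat.ofHom (a ∘ₗ b))
  have hEE : E ≫ E = E := map_injective hfree (by
    rw [Functor.map_comp, hE]
    refine ModuleCat.hom_ext (LinearMap.ext fun x => ?_)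
    exact congrArg a (LinearMap.congr_fun hba (b x)))
  obtain ⟨M, i, r, hir, hri⟩ := IsIdempotentComplete.idempotents_split (FlatMod.freeMod X n) E hEE
  refine ⟨M, ⟨n, i, r, hir⟩, ⟨(LinearEquiv.ofLinearMap (b ∘ₗ ((ΓF X).map i).hom) (((ΓF X).map r).hom ∘ₗ a) ?_ ?_).toModuleIso⟩⟩
  · refine LinearMap.ext fun x => ?_
    have h1 := congr($((ΓF X).map_comp r i) (a x))
    rw [hri, hE] at h1
    show b (((ΓF X).map i) (((ΓF X).map r) (a x))) = x
    refine (congrArg b h1.symm).trans ?_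
    show b (a (b (a x))) = x
    rw [show b (a (b (a x))) = b (a x) from LinearMap.congr_fun hba _]
    exact LinearMap.congr_fun hba x
  · refine LinearMap.ext fun m => ?_
    have h1 : ((ΓF X).map E) (((ΓF X).map i) m) = a (b (((ΓF X).map i) m)) := by rw [hE]; rfl
    show ((ΓF X).map r) (a (b (((ΓF X).map i) m))) = m
    rw [← h1, ← hri]
    show ((ΓF X).map i ≫ (ΓF X).map (r ≫ i) ≫ (ΓF X).map r) m = m
    rw [← Functor.map_comp, ← Functor.map_comp, Category.assoc, reassoc_of% hir, hir]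
    exact congr($((ΓF X).map_id M) m)

variable (X) in
/-- The equivalence. -/
theorem nonempty_equivalence :
    Nonempty ((ObjectProperty.FullSubcategory fun M : X.Modules => P1 X M) ≌
      (ObjectProperty.FullSubcategory fun N : ModuleCat.{u} (Γ(X, ⊤)) =>
        Module.Finite (Γ(X, ⊤)) N ∧ Module.Projective (Γ(X, ⊤)) N)) := by
  let Q : ObjectProperty (ModuleCat.{u} (Γ(X, ⊤))) :=
    fun N => Module.Finite (Γ(X, ⊤)) N ∧ Module.Projective (Γ(X, ⊤)) N
  let P : ObjectProperty X.Modules := fun M => P1 X M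
  let F : P.FullSubcategory ⥤ Q.FullSubcategory := Q.lift (P.ι ⋙ ΓF X) fun M => finite_projective M.2
  haveI : F.Faithful := ⟨fun {M N} a b h =>
    ObjectProperty.hom_ext _ (map_injective M.2 (congrArg (fun t => Q.ι.map t) h))⟩
  haveI : F.Full := ⟨fun {M N} f => by
    obtain ⟨g, hg⟩ := exists_preimage M.2 (Q.ι.map f)
    exact ⟨ObjectProperty.homMk g, ObjectProperty.hom_ext _ hg⟩⟩
  haveI : F.EssSurj := ⟨fun N => by
    haveI := N.2.1
    haveI := N.2.2
    obtain ⟨M, hM, ⟨e⟩⟩ := exists_object N.1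
    exact ⟨⟨M, hM⟩, ⟨ObjectProperty.isoMk _ e⟩⟩⟩
  haveI : F.IsEquivalence := {}
  exact ⟨F.asEquivalence⟩

end Groth.L16.GammaFree
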